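import Cfsg.Agent.H239.CharPLocal
import Cfsg.Prelude.Def_LocalStructure
import Cfsg.Prelude.Def_CaseTheorems
import Cfsg.Prelude.Def_AlmostLie

/-!
# S2927: the interface (helper226)

Plan: `tools/plans/S2927.md`.

* `Tall S Q M Y x` : the facts in `G` under the negation of the claim of S2927;
* `One S Q M Y x K` : moreover `K = F*(G)` is simple (`C_G(K) = 1`);
* `Loc S₁ P V` : what is left of it in `K`: `P`, `V` the images of `S`, `Y` in `Aut K`;
* `Fib S₁ P V` : the same for a component `K` of `G` when `F*(G)` has at least two components;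
* `RowOne K`, `RowTwo K` : sufficient conditions on `C_K(z)`, `z` a 2-central involution of `K`.
-/

set_option autoImplicit false

namespace Cfsg.Agent.H226.Tall

open Subgroup Cfsg
open Cfsg.Agent.H239.CharPLocal (CP)

universe u

/-- `O₂(L)` as a subgroup of `G` -/
abbrev O2 {G : Type*} [Group G] (L : Subgroup G) : Subgroup G := (pCore 2 ↥L).map L.subtype

/-- `W = ⟨Y ^ N(Q)⟩` -/
def Wc {G : Type*} [Group G] (Q Y : Subgroup G) : Subgroup G :=
  closure {w | ∃ c ∈ normalizer (Q : Set G), ∃ y ∈ Y, w = c * y * c⁻¹}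

/-- **The facts in `G`** under the negation of the claim of S2927. Here `O₂(M) = C_S(Y) = T`. -/
structure Tall {G : Type u} [Group G] (S : Sylow 2 G) (Q M Y : Subgroup G) (x : G) : Prop where
  /- the large subgroup `Q` -/
  Q_le : Q ≤ (S : Subgroup G)
  Q_core : O2 (normalizer (Q : Set G)) = Q
  Q_cent : centralizer (Q : Set G) ≤ Q
  Q_norm : ∀ A : Subgroup G, A ≤ Q ⊓ centralizer (Q : Set G) → A ≠ ⊥ →
    normalizer (A : Set G) ≤ normalizer (Q : Set G)
  /-- two maximal 2-local subgroups over `S` -/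
  two : ∃ M₁ M₂ : Subgroup G, M₁ ≠ M₂ ∧ IsMaximalTwoLocal M₁ ∧ IsMaximalTwoLocal M₂ ∧ (S : Subgroup G) ≤ M₁ ∧
    (S : Subgroup G) ≤ M₂
  /-- parabolic characteristic 2 -/
  par : ∀ L : Subgroup G, (S : Subgroup G) ≤ L → O2 L ≠ ⊥ → centralizer (O2 L : Set G) ≤ O2 L
  S_le : (S : Subgroup G) ≤ normalizer (Q : Set G)
  /-- `Z(S) ≤ Q` -/
  zS : ∀ a : G, (∀ s ∈ (S : Subgroup G), s * a = a * s) → (∃ k : ℕ, a ^ 2 ^ k = 1) → a ∈ Q
  /-- the centralizers of the nontrivial elements of `Z(Q)` -/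
  good : ∀ a ∈ Q, a ≠ 1 → (∀ q ∈ Q, q * a = a * q) →
    centralizer ({a} : Set G) ≤ normalizer (Q : Set G) ∧ CP 2 ↥(centralizer ({a} : Set G))
  /- `M` and `Y` -/
  S_le_M : (S : Subgroup G) ≤ M
  M_core : centralizer (O2 M : Set G) ≤ O2 M
  T_eq : O2 M = (S : Subgroup G) ⊓ centralizer (Y : Set G)
  Y_iff : ∀ y : G, y ∈ Y ↔ y ∈ O2 M ∧ y * y = 1 ∧ ∀ t ∈ O2 M, t * y = y * t
  /-- an involution of `Z(S)` is in `Y` -/
  omega : ∀ a : G, (∀ s ∈ (S : Subgroup G), s * a = a * s) → a * a = 1 → a ∈ Y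
  /-- `2`-local subgroups over `M` normalise `Y` -/
  norm_Y : ∀ L : Subgroup G, M ≤ L → O2 L ≠ ⊥ → L ≤ normalizer (Y : Set G)
  asym : ¬ IsSymmetricIn Y
  /-- not characteristic 2-tall -/
  nct : ∀ L : Subgroup G, O2 M ≤ L → CP 2 ↥L → Y ≤ O2 L
  /-- `W = ⟨Y ^ N(Q)⟩` is elementary abelian and in `Q` -/
  W_le : Wc Q Y ≤ Q
  W_sq : ∀ w ∈ Wc Q Y, w * w = 1
  not_le : ¬ M ≤ normalizer (Q : Set G)
  /-- `M` moves the involutions of `Z(S)` -/
  moves : ∀ a : G, (∀ s ∈ (S : Subgroup G), s * a = a * s) → a * a = 1 → a ≠ 1 →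
    ∃ m ∈ M, m * a * m⁻¹ ∈ Y ∧ m * a * m⁻¹ ≠ a
  /-- the bad involution -/
  x_mem : x ∈ Y
  x_ord : orderOf x = 2
  x_bad : ¬ CP 2 ↥(centralizer ({x} : Set G))

/-- **`F*(G) = K` is simple.** -/
structure One {G : Type u} [Group G] (S : Sylow 2 G) (Q M Y : Subgroup G) (x : G) (K : Subgroup G) : Prop
    extends Tall S Q M Y x where
  nK : K.Normal
  simple : IsSimpleGroup ↥K
  nonab : ∃ a b : ↥K, a * b ≠ b * a
  cent : centralizer (K : Set G) = ⊥

/-- **The 2-local situation in `K`.** `P`, `V` are the images of `N_S(K)`, `Y` in `Aut K`. -/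
structure Loc {K : Type u} [Group K] (S₁ : Sylow 2 K) (P V : Subgroup (MulAut K)) : Prop where
  P_two : IsPGroup 2 P
  conj_mem : ∀ s ∈ (S₁ : Subgroup K), MulAut.conj s ∈ P
  P_norm : ∀ α ∈ P, ∀ s ∈ (S₁ : Subgroup K), α s ∈ (S₁ : Subgroup K)
  /-- a `P`-invariant 2-local subgroup which does not normalise `S₁` -/
  loc : ∃ R : Subgroup K, R ≠ ⊥ ∧ R ≤ (S₁ : Subgroup K) ∧ (∀ α ∈ P, ∀ r ∈ R, α r ∈ R) ∧
    ¬ normalizer (R : Set K) ≤ normalizer ((S₁ : Subgroup K) : Set K)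
  V_le : V ≤ P
  /-- `[V, N_K(R)] ≤ O₂(N_K(R))` for every `P`-invariant `R` -/
  V_loc : ∀ R : Subgroup K, R ≠ ⊥ → R ≤ (S₁ : Subgroup K) → (∀ α ∈ P, ∀ r ∈ R, α r ∈ R) →
    ∀ y ∈ V, ∀ k ∈ normalizer (R : Set K), k⁻¹ * y k ∈ O2 (normalizer (R : Set K))

/-- **The situation in a component `K`, if there are at least two components.** -/
structure Fib {K : Type u} [Group K] (S₁ : Sylow 2 K) (P V : Subgroup (MulAut K)) : Prop extends Loc S₁ P V where
  /-- the centralizer in `K` of a `P`-invariant involution of `S₁` is a 2-group -/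
  fix : ∀ a ∈ (S₁ : Subgroup K), orderOf a = 2 → (∀ α ∈ P, α a = a) → IsPGroup 2 ↥(centralizer ({a} : Set K))
  /-- if `K = ⟨X₁, X₂⟩` and `{X₁, X₂}` is invariant under `N_{Aut K}(S₁)` then `V` does not centralise `S₁` -/
  act : ∀ X₁ X₂ : Subgroup K, X₁ ≠ X₂ → (S₁ : Subgroup K) ≤ X₁ → (S₁ : Subgroup K) ≤ X₂ → X₁ ⊔ X₂ = ⊤ →
    O2 X₁ ≠ ⊥ → O2 X₂ ≠ ⊥ → (∀ α ∈ P, X₁.map α.toMonoidHom = X₁ ∧ X₂.map α.toMonoidHom = X₂) →
    (∀ α : MulAut K, (∀ s ∈ (S₁ : Subgroup K), α s ∈ (S₁ : Subgroup K)) →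
      (X₁.map α.toMonoidHom = X₁ ∧ X₂.map α.toMonoidHom = X₂) ∨
        (X₁.map α.toMonoidHom = X₂ ∧ X₂.map α.toMonoidHom = X₁)) →
    ∃ y ∈ V, ∃ s ∈ (S₁ : Subgroup K), y s ≠ s

/-- `z` is an involution centralised by a Sylow 2-subgroup -/
def TwoC {K : Type*} [Group K] (z : K) : Prop :=
  orderOf z = 2 ∧ ∃ P : Sylow 2 K, (P : Subgroup K) ≤ centralizer ({z} : Set K)

/-- A normal elementary abelian subgroup `W ∋ z` of `C_K(z)`, `z` a 2-central involution such that `C_K(z)` is of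
characteristic 2, contains no other element of `z ^ Aut K`. -/
def RowOne (K : Type*) [Group K] : Prop :=
  ∀ z : K, TwoC z → CP 2 ↥(centralizer ({z} : Set K)) → ∀ W : Subgroup K, (∀ w ∈ W, w * w = 1) → z ∈ W →
    centralizer ({z} : Set K) ≤ normalizer (W : Set K) → ∀ w ∈ W, (∃ α : MulAut K, α z = w) → w = z

/-- No centralizer of a 2-central involution is a 2-group. -/
def RowTwo (K : Type*) [Group K] : Prop :=
  ∀ z : K, TwoC z → ¬ IsPGroup 2 ↥(centralizer ({z} : Set K))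

/-- both rows -/
def Both (K : Type*) [Group K] : Prop := RowOne K ∧ RowTwo K

/-- no 2-central involution has a centralizer of characteristic 2 -/
def NotCP (K : Type*) [Group K] : Prop :=
  ∀ z : K, TwoC z → ¬ CP 2 ↥(centralizer ({z} : Set K))

/-- the groups of type `R` do not occur as `F*(G)` -/
def No1 (R : ∀ (K : Type u) [Group K], Prop) : Prop :=
  ∀ {G : Type u} [Group G] [Finite G] {S : Sylow 2 G} {Q M Y : Subgroup G} {x : G} {K : Subgroup G},
    One S Q M Y x K → R ↥K → False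

/-- the groups of type `R` do not occur as components (at least two components) -/
def No2 (R : ∀ (K : Type u) [Group K], Prop) : Prop :=
  ∀ {K : Type u} [Group K] [Finite K] [IsSimpleGroup K] {S₁ : Sylow 2 K} {P V : Subgroup (MulAut K)},
    Fib S₁ P V → R K → False

/-- **Rigidity**: `V` consists of conjugations with elements of `S₁`. -/
def Rig (K : Type u) [Group K] : Prop :=
  ∀ (S₁ : Sylow 2 K) (P V : Subgroup (MulAut K)), Loc S₁ P V → ∀ y ∈ V, ∃ s ∈ (S₁ : Subgroup K), y = MulAut.conj s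

end Cfsg.Agent.H226.Tall
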