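import Cfsg.Agent.H226.Tall.Gen
import Cfsg.Agent.H226.Dict
import Cfsg.Agent.H239.ParChar
import Cfsg.Agent.S0542
import Cfsg.Agent.Lib.NormalAbelian
import Cfsg.Agent.S0205

/-!
# S2927: general lemmas in `G` (helper226)

* `Tall` : `Y_le_W`, `norm_W`, `Y_le_S`, `Y_sq`;
* `One.exists_z` : an involution of `Z(S) ∩ K`; `One.cp_K` : `C_K(a)` has characteristic 2;
* `One.false_of_rowOne`, `no1_of_rowOne`, `no1_of_out`, `One.false_of_class`;
-/

set_option autoImplicit false
set_option linter.unusedSectionVars false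

namespace Cfsg.Agent.H226.Tall

open Subgroup Cfsg
open Cfsg.Agent.H239.CharPLocal (CP)
open Cfsg.Agent.Lib.Cores

universe u

section Basic

variable {G : Type u} [Group G]

theorem mem_normalizer_of_conj {H : Subgroup G} [Finite G] {g : G} (h : ∀ x ∈ H, g * x * g⁻¹ ∈ H) :
    g ∈ normalizer (H : Set G) := by
  have h1 : H.map (MulAut.conj g).toMonoidHom ≤ H := by
    rintro _ ⟨x, hx, rfl⟩
    exact h x hx
  have h2 : H.map (MulAut.conj g).toMonoidHom = H := by
    refine Subgroup.eq_of_le_of_card_ge h1 ?_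
    exact (Nat.card_congr (H.equivMapOfInjective _ (MulAut.conj g).injective).toEquiv).le
  rw [mem_normalizer_iff]
  intro y
  constructor
  · exact h y
  · intro hy
    rw [← h2] at hy
    obtain ⟨x, hx, hxy⟩ := hy
    have h3 : x = y := (MulAut.conj g).injective hxy
    rwa [← h3]

theorem O2_normal_conj (L : Subgroup G) {g x : G} (hg : g ∈ L) (hx : x ∈ O2 L) : g * x * g⁻¹ ∈ O2 L := by
  obtain ⟨y, hy, rfl⟩ := hx
  have hn : (pCore 2 ↥L).Normal := Cfsg.Agent.Lib.Cores.pCore_normal 2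
  exact ⟨⟨g, hg⟩ * y * ⟨g, hg⟩⁻¹, hn.conj_mem y hy ⟨g, hg⟩, rfl⟩

theorem O2_le (L : Subgroup G) : O2 L ≤ L := by
  rintro _ ⟨y, -, rfl⟩
  exact y.2

theorem O2_isPGroup (L : Subgroup G) [Finite G] : IsPGroup 2 (O2 L) := (pCore_isPGroup 2).map _

/-- a normal 2-subgroup of `L` is in `O₂(L)` -/
theorem le_O2 [Finite G] {L R : Subgroup G} (hRL : R ≤ L) (hR : IsPGroup 2 R) (hn : ∀ g ∈ L, ∀ r ∈ R, g * r * g⁻¹ ∈ R) :
    R ≤ O2 L := by
  have h1 : (R.subgroupOf L).Normal := by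
    constructor
    intro r hr g
    rw [mem_subgroupOf] at hr ⊢
    exact hn g g.2 r hr
  have h2 : R.subgroupOf L ≤ pCore 2 ↥L := by
    refine le_pCore h1 ?_
    have h0 : IsPGroup 2 ((R.subgroupOf L).map L.subtype) := by
      rw [subgroupOf_map_subtype]
      exact hR.to_le inf_le_left
    exact h0.of_equiv ((R.subgroupOf L).equivMapOfInjective _ L.subtype_injective).symm
  intro r hr
  exact ⟨⟨r, hRL hr⟩, h2 (mem_subgroupOf.2 hr), rfl⟩

end Basic

section TallSec

variable {G : Type u} [Group G] [Finite G] {S : Sylow 2 G} {Q M Y : Subgroup G} {x : G}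

theorem Y_le_Wc (Q Y : Subgroup G) : Y ≤ Wc Q Y := by
  intro y hy
  refine subset_closure ⟨1, one_mem _, y, hy, ?_⟩
  group

theorem norm_Wc (Q Y : Subgroup G) : normalizer (Q : Set G) ≤ normalizer (Wc Q Y : Set G) := by
  intro g hg
  refine mem_normalizer_of_conj fun w hw => ?_
  unfold Wc at hw ⊢
  refine closure_induction (p := fun w _ => g * w * g⁻¹ ∈ closure {w | ∃ c ∈ normalizer (Q : Set G), ∃ y ∈ Y, w = c * y * c⁻¹})
    ?_ ?_ ?_ ?_ hw
  · rintro _ ⟨c, hc, y, hy, rfl⟩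
    exact subset_closure ⟨g * c, mul_mem hg hc, y, hy, by group⟩
  · rw [mul_one, mul_inv_cancel]
    exact one_mem _
  · intro a b _ _ ha hb
    rw [show g * (a * b) * g⁻¹ = (g * a * g⁻¹) * (g * b * g⁻¹) by group]
    exact mul_mem ha hb
  · intro a _ ha
    rw [show g * a⁻¹ * g⁻¹ = (g * a * g⁻¹)⁻¹ by group]
    exact inv_mem ha

theorem Tall.Y_le_Q (h : Tall S Q M Y x) : Y ≤ Q := (Y_le_Wc Q Y).trans h.W_le

theorem Tall.Y_le_S (h : Tall S Q M Y x) : Y ≤ (S : Subgroup G) := h.Y_le_Q.trans h.Q_le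

theorem Tall.Y_sq (h : Tall S Q M Y x) {y : G} (hy : y ∈ Y) : y * y = 1 := ((h.Y_iff y).1 hy).2.1

/-- an involution of `Z(S)` is good -/
theorem Tall.good' (h : Tall S Q M Y x) {a : G} (ha : ∀ s ∈ (S : Subgroup G), s * a = a * s) (h2 : a * a = 1)
    (h1 : a ≠ 1) : centralizer ({a} : Set G) ≤ normalizer (Q : Set G) ∧ CP 2 ↥(centralizer ({a} : Set G)) :=
  h.good a (h.Y_le_Q (h.omega a ha h2)) h1 fun q hq => ha q (h.Q_le hq)

theorem Tall.S_norm_Y (h : Tall S Q M Y x) : (S : Subgroup G) ≤ normalizer (Y : Set G) := by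
  intro s hs
  refine mem_normalizer_of_conj fun y hy => ?_
  obtain ⟨h1, h2, h3⟩ := (h.Y_iff y).1 hy
  have hsM := h.S_le_M hs
  rw [h.Y_iff]
  refine ⟨O2_normal_conj M hsM h1, ?_, fun t ht => ?_⟩
  · rw [show s * y * s⁻¹ * (s * y * s⁻¹) = s * (y * y) * s⁻¹ by group, h2, mul_one, mul_inv_cancel]
  · have h4 : s⁻¹ * t * s ∈ O2 M := by
      have := O2_normal_conj M (inv_mem hsM) ht
      rwa [inv_inv] at this
    have h5 := h3 _ h4
    calc t * (s * y * s⁻¹) = s * ((s⁻¹ * t * s) * y) * s⁻¹ := by group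
      _ = s * (y * (s⁻¹ * t * s)) * s⁻¹ := by rw [h5]
      _ = s * y * s⁻¹ * t := by group

end TallSec

section OneSec

variable {G : Type u} [Group G] [Finite G] {S : Sylow 2 G} {Q M Y K : Subgroup G} {x : G}

theorem One.sylow (h : One S Q M Y x K) : ∃ P : Sylow 2 ↥K, (P : Subgroup ↥K) = (S : Subgroup G).subgroupOf K := by
  have hp2 : Fact (Nat.Prime 2) := ⟨Nat.prime_two⟩
  have hn := h.nK
  exact S0542.result 2 K hn.isSubnormal S

theorem One.two_dvd (h : One S Q M Y x K) : 2 ∣ Nat.card ↥K := by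
  by_contra h2
  have hs := h.simple
  have h3 : Odd (Nat.card ↥K) := Nat.odd_iff.2 (by omega)
  have hsol : Group.IsSolvable ↥K := S0205.result h3
  obtain ⟨a, b, hab⟩ := h.nonab
  exact hab ((IsSimpleGroup.comm_iff_isSolvable.2 hsol) a b)

theorem One.SK_ne (h : One S Q M Y x K) : (S : Subgroup G) ⊓ K ≠ ⊥ := by
  have hp2 : Fact (Nat.Prime 2) := ⟨Nat.prime_two⟩
  intro hb
  obtain ⟨P, hP⟩ := h.sylow
  have h1 : (P : Subgroup ↥K) = ⊥ := by
    rw [hP, eq_bot_iff]
    intro k hk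
    have h2 : (k : G) ∈ (S : Subgroup G) ⊓ K := ⟨mem_subgroupOf.1 hk, k.2⟩
    rw [hb, mem_bot] at h2
    exact mem_bot.2 (Subtype.ext h2)
  have h2 := P.dvd_card_of_dvd_card h.two_dvd
  rw [h1] at h2
  have h3 : Nat.card ((⊥ : Subgroup ↥K)) = 1 := Subgroup.card_bot
  rw [h3] at h2
  omega

/-- a subgroup of `S` normalised by `S` contains an involution of `Z(S)` -/
theorem exists_central (S : Sylow 2 G) {R : Subgroup G} (hR : R ≤ (S : Subgroup G)) (hR1 : R ≠ ⊥)
    (hn : ∀ s ∈ (S : Subgroup G), ∀ r ∈ R, s * r * s⁻¹ ∈ R) :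
    ∃ a ∈ R, orderOf a = 2 ∧ ∀ s ∈ (S : Subgroup G), s * a = a * s := by
  have hp2 : Fact (Nat.Prime 2) := ⟨Nat.prime_two⟩
  have hN : (R.subgroupOf (S : Subgroup G)).Normal := by
    constructor
    intro r hr g
    rw [mem_subgroupOf] at hr ⊢
    exact hn g g.2 r hr
  have hb : R.subgroupOf (S : Subgroup G) ≠ ⊥ := by
    intro h
    rw [subgroupOf_eq_bot, disjoint_iff, inf_eq_left.2 hR] at h
    exact hR1 h
  have hnil : Group.IsNilpotent (S : Subgroup G) := S.isPGroup'.isNilpotent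
  have h1 := Lib.NormalAbelian.normal_inf_center_ne_bot (R.subgroupOf (S : Subgroup G)) hb
  obtain ⟨w, hw, hw1⟩ := (bot_or_exists_ne_one _).resolve_left h1
  obtain ⟨hwR, hwZ⟩ := mem_inf.1 hw
  obtain ⟨k, hk⟩ := (IsPGroup.iff_orderOf.mp S.isPGroup') w
  have hk0 : 0 < k := by
    rcases Nat.eq_zero_or_pos k with h0 | h0
    · rw [h0, pow_zero, orderOf_eq_one_iff] at hk
      exact absurd hk hw1
    · exact h0
  obtain ⟨j, rfl⟩ : ∃ j, k = j + 1 := ⟨k - 1, by omega⟩
  have hord : orderOf (w ^ 2 ^ j) = 2 := by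
    rw [orderOf_pow_of_dvd (by positivity) (by rw [hk]; exact pow_dvd_pow 2 (Nat.le_succ j)), hk,
      pow_succ, Nat.mul_div_cancel_left _ (by positivity)]
  refine ⟨((w ^ 2 ^ j : (S : Subgroup G)) : G), ?_, ?_, ?_⟩
  · exact mem_subgroupOf.1 (pow_mem hwR _)
  · rw [Subgroup.orderOf_coe, hord]
  · intro s hs
    exact congrArg Subtype.val (mem_center_iff.1 (pow_mem hwZ (2 ^ j)) ⟨s, hs⟩)

/-- an involution of `Z(S) ∩ K` -/
theorem One.exists_z (h : One S Q M Y x K) :
    ∃ a ∈ K, orderOf a = 2 ∧ ∀ s ∈ (S : Subgroup G), s * a = a * s := by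
  obtain ⟨a, ⟨-, h1⟩, h2, h3⟩ := exists_central S (R := (S : Subgroup G) ⊓ K) inf_le_left h.SK_ne (by
    intro s hs r hr
    exact ⟨(S : Subgroup G).mul_mem ((S : Subgroup G).mul_mem hs hr.1) ((S : Subgroup G).inv_mem hs), h.nK.conj_mem r hr.2 s⟩)
  exact ⟨a, h1, h2, h3⟩

theorem sq_of_order {a : G} (h : orderOf a = 2) : a * a = 1 := by rw [← pow_two, ← h, pow_orderOf_eq_one]

theorem ne_of_order {a : G} (h : orderOf a = 2) : a ≠ 1 := by
  rintro rfl
  rw [orderOf_one] at h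
  exact absurd h (by norm_num)

/-- `C_K(a)` is of characteristic 2 if `C_G(a)` is -/
theorem cp_in {K : Subgroup G} (hK : K.Normal) {a : G} (ha : a ∈ K) (h : CP 2 ↥(centralizer ({a} : Set G))) :
    CP 2 ↥(centralizer ({(⟨a, ha⟩ : ↥K)} : Set ↥K)) := by
  have hp2 : Fact (Nat.Prime 2) := ⟨Nat.prime_two⟩
  have hn : (K.subgroupOf (centralizer ({a} : Set G))).Normal := inferInstance
  have e : ↥(K.subgroupOf (centralizer ({a} : Set G))) ≃* ↥(centralizer ({(⟨a, ha⟩ : ↥K)} : Set ↥K)) :=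
    { toFun := fun y => ⟨⟨((y : ↥(centralizer ({a} : Set G))) : G), mem_subgroupOf.1 y.2⟩, by
          rw [mem_centralizer_singleton_iff]
          exact Subtype.ext (mem_centralizer_singleton_iff.1 (y : ↥(centralizer ({a} : Set G))).2)⟩
      invFun := fun x => ⟨⟨((x : ↥K) : G), by
          have h2 := mem_centralizer_singleton_iff.1 x.2
          rw [mem_centralizer_singleton_iff]
          exact congrArg Subtype.val h2⟩, mem_subgroupOf.2 (x : ↥K).2⟩
      left_inv := fun x => rfl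
      right_inv := fun y => rfl
      map_mul' := fun x y => rfl }
  exact (h.normal _).of_equiv e

/-- an involution of `Z(S) ∩ K` is 2-central in `K` -/
theorem One.twoC (h : One S Q M Y x K) {a : G} (ha : a ∈ K) (ho : orderOf a = 2)
    (hS : ∀ s ∈ (S : Subgroup G), s * a = a * s) : TwoC (⟨a, ha⟩ : ↥K) := by
  obtain ⟨P, hP⟩ := h.sylow
  refine ⟨by rw [Subgroup.orderOf_mk]; exact ho, P, ?_⟩
  rw [hP]
  intro s hs
  rw [mem_centralizer_singleton_iff]
  exact Subtype.ext (hS s (mem_subgroupOf.1 hs))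

/-- **`RowOne K` is impossible.** -/
theorem One.false_of_rowOne (h : One S Q M Y x K) (hr : RowOne ↥K) : False := by
  obtain ⟨a, haK, ho, haS⟩ := h.exists_z
  have ha2 := sq_of_order ho
  have ha1 := ne_of_order ho
  have hg := h.good' haS ha2 ha1
  obtain ⟨m, hm, hmY, hma⟩ := h.moves a haS ha2 ha1
  have hn := h.nK
  have h1 := hr ⟨a, haK⟩ (h.twoC haK ho haS) (cp_in h.nK haK hg.2) ((Wc Q Y).subgroupOf K)
    (fun w hw => Subtype.ext (h.W_sq w (mem_subgroupOf.1 hw)))
    (mem_subgroupOf.2 (Y_le_Wc Q Y (h.omega a haS ha2)))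
    (by
      intro g hg'
      have h2 : (g : G) ∈ centralizer ({a} : Set G) := by
        rw [mem_centralizer_singleton_iff] at hg' ⊢
        exact congrArg Subtype.val hg'
      have h3 := norm_Wc Q Y (hg.1 h2)
      rw [mem_normalizer_iff] at h3 ⊢
      intro y
      exact h3 y)
    ⟨m * a * m⁻¹, hn.conj_mem a haK m⟩ (mem_subgroupOf.2 (Y_le_Wc Q Y hmY))
    ⟨MulAut.conjNormal m, Subtype.ext (by rw [MulAut.conjNormal_apply])⟩
  exact hma (congrArg Subtype.val h1)

/-- a set of bad involutions of `K`, invariant under `Aut K`, is not of odd cardinality -/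
theorem One.false_of_set (h : One S Q M Y x K) (A : Set ↥K) (hinv : ∀ α : MulAut ↥K, ∀ t ∈ A, α t ∈ A)
    (hodd : Odd (Nat.card A)) (hb : ∀ t ∈ A, orderOf t = 2 ∧ ¬ CP 2 ↥(centralizer ({t} : Set ↥K))) : False := by
  classical
  have hp2 : Fact (Nat.Prime 2) := ⟨Nat.prime_two⟩
  have hn := h.nK
  let _ : MulAction (S : Subgroup G) A :=
    { smul := fun s t => ⟨MulAut.conjNormal (s : G) (t : ↥K), hinv _ _ t.2⟩
      one_smul := fun t => by
        apply Subtype.ext
        show MulAut.conjNormal (((1 : (S : Subgroup G)) : G)) (t : ↥K) = t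
        rw [OneMemClass.coe_one, map_one]
        rfl
      mul_smul := fun s r t => by
        apply Subtype.ext
        show MulAut.conjNormal (((s * r : (S : Subgroup G)) : G)) (t : ↥K) =
          MulAut.conjNormal (s : G) (MulAut.conjNormal (r : G) (t : ↥K))
        rw [MulMemClass.coe_mul, map_mul]
        rfl }
  have h2 : Nat.card A ≡ Nat.card (MulAction.fixedPoints (S : Subgroup G) A) [MOD 2] :=
    S.isPGroup'.card_modEq_card_fixedPoints A
  have h3 : Nonempty (MulAction.fixedPoints (S : Subgroup G) A) := by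
    by_contra hne
    rw [not_nonempty_iff] at hne
    rw [Nat.card_of_isEmpty (α := MulAction.fixedPoints (S : Subgroup G) A)] at h2
    have h4 : 2 ∣ Nat.card A := Nat.modEq_zero_iff_dvd.1 h2
    rcases hodd with ⟨m, hm⟩
    omega
  obtain ⟨⟨t, ht⟩⟩ := h3
  have hcomm : ∀ s ∈ (S : Subgroup G), s * ((t : ↥K) : G) = ((t : ↥K) : G) * s := by
    intro s hs
    have h4 : MulAut.conjNormal s (t : ↥K) = (t : ↥K) := congrArg Subtype.val (ht ⟨s, hs⟩)
    have h5 := congrArg Subtype.val h4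
    rw [MulAut.conjNormal_apply] at h5
    exact mul_inv_eq_iff_eq_mul.1 h5
  obtain ⟨h5, h6⟩ := hb t t.2
  have h7 : orderOf (((t : ↥K) : G)) = 2 := by rw [Subgroup.orderOf_coe]; exact h5
  have h8 := h.good' hcomm (sq_of_order h7) (ne_of_order h7)
  exact h6 (cp_in h.nK (t : ↥K).2 h8.2)

/-- the class of a bad 2-central involution is not invariant under `Aut K` -/
theorem One.false_of_class (h : One S Q M Y x K) {t : ↥K} (ht : TwoC t)
    (hb : ¬ CP 2 ↥(centralizer ({t} : Set ↥K))) (hinv : ∀ α : MulAut ↥K, ∃ k : ↥K, α t = k * t * k⁻¹) : False := by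
  classical
  have hp2 : Fact (Nat.Prime 2) := ⟨Nat.prime_two⟩
  obtain ⟨ho, P, hP⟩ := ht
  refine h.false_of_set {u | ∃ k : ↥K, u = k * t * k⁻¹} ?_ ?_ ?_
  · rintro α _ ⟨k, rfl⟩
    obtain ⟨l, hl⟩ := hinv α
    refine ⟨α k * l, ?_⟩
    rw [map_mul, map_mul, map_inv, hl]
    group
  · have h1 : {u | ∃ k : ↥K, u = k * t * k⁻¹} = MulAction.orbit (ConjAct ↥K) t := by
      ext u
      constructor
      · rintro ⟨k, rfl⟩
        exact ⟨ConjAct.toConjAct k, by
          show ConjAct.toConjAct k • t = _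
          rw [ConjAct.smul_def, ConjAct.ofConjAct_toConjAct]⟩
      · rintro ⟨k, rfl⟩
        exact ⟨ConjAct.ofConjAct k, by
          show k • t = _
          rw [ConjAct.smul_def]⟩
    rw [h1]
    have h2 := MulAction.index_stabilizer (G := ConjAct ↥K) t
    have h3 : (MulAction.stabilizer (ConjAct ↥K) t).index = (centralizer ({t} : Set ↥K)).index := by
      rw [ConjAct.stabilizer_eq_centralizer]
      rfl
    have h4 : ¬ 2 ∣ (centralizer ({t} : Set ↥K)).index := fun h5 =>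
      P.not_dvd_index (h5.trans (Subgroup.index_dvd_of_le hP))
    rw [h3] at h2
    have h5 : Nat.card (MulAction.orbit (ConjAct ↥K) t) = (centralizer ({t} : Set ↥K)).index := by
      rw [h2]
      rfl
    rw [h5, Nat.odd_iff]
    omega
  · rintro _ ⟨k, rfl⟩
    have h1 : MulAut.conj k t = k * t * k⁻¹ := rfl
    rw [← h1]
    refine ⟨by rw [MulEquiv.orderOf_eq]; exact ho, ?_⟩
    rw [← cp_cent_iff]
    exact hb

/-- **All involutions of `K` have centralizers of characteristic 2 and `Out K = 1`.** -/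
theorem One.false_of_out (h : One S Q M Y x K)
    (hcp : ∀ t : ↥K, orderOf t = 2 → CP 2 ↥(centralizer ({t} : Set ↥K)))
    (hout : ∀ α : MulAut ↥K, ∃ k : ↥K, α = MulAut.conj k) : False := by
  have hn := h.nK
  have hmem : ∀ g : G, g ∈ K := by
    intro g
    obtain ⟨k, hk⟩ := hout (MulAut.conjNormal g)
    have h1 : g * (k : G)⁻¹ ∈ centralizer (K : Set G) := by
      rw [mem_centralizer_iff]
      intro l hl
      have h2 : (k : G)⁻¹ * l * k ∈ K := by
        have := hn.conj_mem l hl (k : G)⁻¹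
        rwa [inv_inv] at this
      have h3 := congrArg (fun α : MulAut ↥K => ((α ⟨(k : G)⁻¹ * l * k, h2⟩ : ↥K) : G)) hk
      simp only [MulAut.conjNormal_apply, MulAut.conj_apply, MulMemClass.coe_mul, InvMemClass.coe_inv] at h3
      have h4 : g * ((k : G)⁻¹ * l * k) * g⁻¹ = l := by
        rw [h3]
        group
      have h5 : g * (k : G)⁻¹ * l = l * (g * (k : G)⁻¹) := by
        calc g * (k : G)⁻¹ * l = (g * ((k : G)⁻¹ * l * k) * g⁻¹) * (g * (k : G)⁻¹) := by group
          _ = l * (g * (k : G)⁻¹) := by rw [h4]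
      exact h5.symm
    rw [h.cent, mem_bot, mul_inv_eq_one] at h1
    rw [h1]
    exact k.2
  have htop : K = ⊤ := eq_top_iff.2 fun g _ => hmem g
  let e : ↥K ≃* G := (MulEquiv.subgroupCongr htop).trans topEquiv
  have h1 := hcp ⟨x, hmem x⟩ (by rw [Subgroup.orderOf_mk]; exact h.x_ord)
  rw [cp_cent_iff e] at h1
  exact h.x_bad h1

end OneSec

theorem no1_of_rowOne : No1.{u} (fun K _ => RowOne K) := fun h hr => h.false_of_rowOne hr

theorem no1_of_out : No1.{u} (fun K _ => (∀ t : K, orderOf t = 2 → CP 2 ↥(centralizer ({t} : Set K))) ∧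
    ∀ α : MulAut K, ∃ k : K, α = MulAut.conj k) := fun h hr => h.false_of_out hr.1 hr.2

end Cfsg.Agent.H226.Tall
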